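import Cfsg.Agent.H326.F4C.Reps

/-!
# The elements of odd order of `F₄(2)` (helper326)

`H16` : the count of the 2-regular classes (helper197).  From it:

* `cases` : an element of odd order is conjugate to an element of the subgroup generated by the root elements of the
  Levi subsystem `{27, 25, 24}` or `{33, 27, 25}`, or it has order `13`, `17` or `21`;
* `conj13`, `conj17`, `conj21` : the classes of elements of order `13`, `17`, `21`.
-/

set_option autoImplicit false
set_option maxRecDepth 100000

namespace Cfsg.Agent.H326.F4C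

open Cfsg.Lie Cfsg.Agent.FourTwo.Base Cfsg.Agent.FourTwo.RankInv Cfsg.Agent.FourTwo.ClassSep

/-- at most sixteen classes of elements of odd order -/
def H16 : Prop := ∀ f : Fin 16 → LL, (∀ i, Odd (orderOf (f i))) → (∀ i j, IsConj (f i) (f j) → i = j) →
  ∀ {g : LL}, Odd (orderOf g) → ∃ i, IsConj (f i) g

theorem orderOf_conj {G : Type*} [Group G] {g h : G} (e : IsConj g h) : orderOf g = orderOf h := by
  obtain ⟨c, rfl⟩ := isConj_iff.1 e
  exact (MulEquiv.orderOf_eq (MulAut.conj c) g).symm

theorem isConj_pow {G : Type*} [Group G] {g h : G} (e : IsConj g h) (n : ℕ) : IsConj (g ^ n) (h ^ n) := by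
  obtain ⟨c, rfl⟩ := isConj_iff.1 e
  exact isConj_iff.2 ⟨c, conj_pow.symm⟩

theorem isConj_map {G : Type*} [Group G] {g h : G} (e : IsConj g h) (f : G →* G) : IsConj (f g) (f h) := by
  obtain ⟨c, rfl⟩ := isConj_iff.1 e
  exact isConj_iff.2 ⟨f c, by simp⟩

/-- the subgroup generated by root elements -/
def lev (s : List ℕ) : Subgroup LL := Subgroup.closure {g | ∃ r ∈ s, g = x r}

theorem wd_mem_lev {s w : List ℕ} (h : ∀ r ∈ w, r ∈ s) : wd w ∈ lev s := by
  induction w with
  | nil => exact one_mem _
  | cons r w ih =>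
    rw [wd_cons]
    exact mul_mem (Subgroup.subset_closure ⟨r, h r List.mem_cons_self, rfl⟩)
      (ih fun t ht => h t (List.mem_cons_of_mem _ ht))

/-- letters of the first Levi subgroup -/
def s1 : List ℕ := [27, 20, 25, 22, 24, 23]
/-- letters of the second Levi subgroup -/
def s2 : List ℕ := [33, 14, 27, 20, 25, 22]

theorem WL_chk : (WL.all fun p => p.2.all fun r => s1.contains r) = true := by decide +kernel
theorem WM_chk : (WM.all fun p => p.2.all fun r => s2.contains r) = true := by decide +kernel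

theorem mem_of_chk {s : List ℕ} {W : List (ℕ × List ℕ)} (h : (W.all fun p => p.2.all fun r => s.contains r) = true)
    {p : ℕ × List ℕ} (hp : p ∈ W) : wd p.2 ∈ lev s := by
  refine wd_mem_lev fun r hr => ?_
  have h1 := List.all_eq_true.1 (List.all_eq_true.1 h p hp) r hr
  exact List.contains_iff_mem.1 h1

theorem mem_WN {p : ℕ × List ℕ} (hp : p ∈ WN) : p = (13, w13) ∨ p = (17, w17) ∨ p = (17, w17 ++ (w17 ++ w17)) ∨
    p = (21, w21) ∨ p = (21, w21') := by
  unfold WN at hp
  simpa using hp

theorem ne_of_iw {w w' : List ℕ} (hw : okw w = true) (hw' : okw w' = true) (h : iw w ≠ iw w') : wd w ≠ wd w' :=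
  fun e => sep_iw hw hw' h (e ▸ IsConj.refl _)

theorem order_prime {w : List ℕ} {n : ℕ} (hn : n.Prime) (hw : (n, w) ∈ W16) (h : iw w ≠ iw []) :
    orderOf (wd w) = n := by
  rcases (Nat.dvd_prime hn).1 (orderOf16 hw) with h1 | h1
  · rw [orderOf_eq_one_iff] at h1
    exact absurd (h1.trans wd_nil.symm) (ne_of_iw (okw16 hw) rfl h)
  · exact h1

theorem order13 : orderOf (wd w13) = 13 := order_prime (by norm_num) (by decide +kernel) (by decide +kernel)

theorem order17 : orderOf (wd w17) = 17 := order_prime (by norm_num) (by decide +kernel) (by decide +kernel)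

theorem order21_of {w : List ℕ} (hw : (21, w) ∈ W16) (h3 : iw (rpw w 3) ≠ iw []) (h7 : iw (rpw w 7) ≠ iw []) :
    orderOf (wd w) = 21 := by
  have h1 := orderOf16 hw
  have key : ∀ k : ℕ, iw (rpw w k) ≠ iw [] → ¬ orderOf (wd w) ∣ k := by
    intro k hk h2
    rw [orderOf_dvd_iff_pow_eq_one, ← wd_rpw] at h2
    exact ne_of_iw (okw_rpw (okw16 hw) k) rfl hk (h2.trans wd_nil.symm)
  have h4 := key 3 h3
  have h5 := key 7 h7
  have h6 : orderOf (wd w) ≤ 21 := Nat.le_of_dvd (by norm_num) h1
  have h8 : orderOf (wd w) ∈ Nat.divisors 21 := Nat.mem_divisors.2 ⟨h1, by norm_num⟩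
  have h9 : Nat.divisors 21 = {1, 3, 7, 21} := by decide
  rw [h9] at h8
  simp only [Finset.mem_insert, Finset.mem_singleton] at h8
  rcases h8 with e | e | e | e
  · rw [e] at h4; exact absurd (one_dvd _) h4
  · rw [e] at h4; exact absurd dvd_rfl h4
  · rw [e] at h5; exact absurd dvd_rfl h5
  · exact e

theorem order21 : orderOf (wd w21) = 21 := order21_of (by decide +kernel) (by decide +kernel) (by decide +kernel)

/-- **elements of odd order** -/
theorem cases (H : H16) {g : LL} (hg : Odd (orderOf g)) : (∃ y : LL, y * g * y⁻¹ ∈ lev s1) ∨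
    (∃ y : LL, y * g * y⁻¹ ∈ lev s2) ∨ orderOf g = 13 ∨ orderOf g = 17 ∨ orderOf g = 21 := by
  obtain ⟨p, hp, h⟩ := exists_mem H hg
  have hc : ∀ s : List ℕ, wd p.2 ∈ lev s → ∃ y : LL, y * g * y⁻¹ ∈ lev s := by
    intro s hs
    obtain ⟨c, hc⟩ := isConj_iff.1 h.symm
    exact ⟨c, by rw [hc]; exact hs⟩
  have hp' := hp
  unfold W16 at hp'
  rw [List.mem_append, List.mem_append] at hp'
  rcases hp' with h1 | h1 | h1
  · exact Or.inl (hc _ (mem_of_chk WL_chk h1))
  · exact Or.inr (Or.inl (hc _ (mem_of_chk WM_chk h1)))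
  · right; right
    rw [← orderOf_conj h]
    have h17 : orderOf (wd (w17 ++ (w17 ++ w17))) = 17 :=
      order_prime (by norm_num) (by decide +kernel) (by decide +kernel)
    have h21 : orderOf (wd w21') = 21 := order21_of (by decide +kernel) (by decide +kernel) (by decide +kernel)
    rcases mem_WN h1 with rfl | rfl | rfl | rfl | rfl
    · exact Or.inl order13
    · exact Or.inr (Or.inl order17)
    · exact Or.inr (Or.inl h17)
    · exact Or.inr (Or.inr order21)
    · exact Or.inr (Or.inr h21)

/-- the words whose exponent is divisible by `n` -/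
theorem exists_of_order (H : H16) {g : LL} {n : ℕ} (hn : n % 2 = 1) (hg : orderOf g = n) :
    ∃ p ∈ W16.filter fun p => p.1 % n == 0, IsConj (wd p.2) g := by
  obtain ⟨p, hp, h⟩ := exists_mem H (g := g) (by rw [hg]; exact Nat.odd_iff.2 hn)
  refine ⟨p, List.mem_filter.2 ⟨hp, ?_⟩, h⟩
  have h1 := orderOf16 hp
  rw [orderOf_conj h, hg] at h1
  rw [beq_iff_eq]
  exact Nat.mod_eq_zero_of_dvd h1

theorem filter13 : (W16.filter fun p => p.1 % 13 == 0) = [(13, w13)] := by decide +kernel
theorem filter17 : (W16.filter fun p => p.1 % 17 == 0) = [(17, w17), (17, w17 ++ (w17 ++ w17))] := by decide +kernel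
theorem filter21 : (W16.filter fun p => p.1 % 21 == 0) = [(21, w21), (21, w21')] := by decide +kernel

/-- one class of elements of order 13 -/
theorem conj13 (H : H16) {g h : LL} (hg : orderOf g = 13) (hh : orderOf h = 13) : IsConj g h := by
  have key : ∀ {g : LL}, orderOf g = 13 → IsConj (wd w13) g := by
    intro g hg
    obtain ⟨p, hp, e⟩ := exists_of_order H (by norm_num) hg
    rw [filter13, List.mem_singleton] at hp
    rw [hp] at e
    exact e
  exact (key hg).symm.trans (key hh)

/-- elements of order 17 are conjugate to `a` or `a³` -/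
theorem key17 (H : H16) {g : LL} (hg : orderOf g = 17) : IsConj (wd w17) g ∨ IsConj (wd w17 ^ 3) g := by
  obtain ⟨p, hp, e⟩ := exists_of_order H (by norm_num) hg
  rw [filter17] at hp
  simp only [List.mem_cons, List.not_mem_nil, or_false] at hp
  rcases hp with rfl | rfl
  · exact Or.inl e
  · right
    rw [cube]
    simpa [wd_append] using e

theorem sep17 : ¬ IsConj (wd w17) (wd w17 ^ 3) := by
  have h : wd w17 ^ 3 = wd (w17 ++ (w17 ++ w17)) := by rw [cube, wd_append, wd_append]
  rw [h]
  exact sep_iw rfl rfl (by decide +kernel)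

theorem conj_nine (H : H16) : IsConj (wd w17) (wd w17 ^ 9) := by
  have p17 : wd w17 ^ 17 = 1 := by
    have h := pow_orderOf_eq_one (wd w17)
    rwa [order17] at h
  have h9 : orderOf (wd w17 ^ 9) = 17 := by
    have h := Nat.Coprime.orderOf_pow (y := wd w17) (m := 9) (by rw [order17]; norm_num)
    rw [h, order17]
  rcases key17 H h9 with h | h
  · exact h
  · exfalso
    have h1 := isConj_pow h 6
    have e1 : (wd w17 ^ 3) ^ 6 = wd w17 := by
      rw [← pow_mul, show 3 * 6 = 17 + 1 by norm_num, pow_add, p17, one_mul, pow_one]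
    have e2 : (wd w17 ^ 9) ^ 6 = wd w17 ^ 3 := by
      rw [← pow_mul, show 9 * 6 = 17 * 3 + 3 by norm_num, pow_add, pow_mul, p17, one_pow, one_mul]
    rw [e1, e2] at h1
    exact sep17 h1

/-- elements of order 17 -/
theorem conj17 (H : H16) {g h : LL} (hg : orderOf g = 17) (hh : orderOf h = 17) : IsConj g h ∨ IsConj g (h ^ 3) := by
  rcases key17 H hg with e1 | e1 <;> rcases key17 H hh with e2 | e2
  · exact Or.inl (e1.symm.trans e2)
  · right
    have e3 := isConj_pow e2 3
    rw [← pow_mul] at e3
    exact e1.symm.trans ((conj_nine H).trans e3)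
  · exact Or.inr (e1.symm.trans (isConj_pow e2 3))
  · exact Or.inl (e1.symm.trans e2)

/-! ### order 21 -/

theorem bar_bar : ∀ r < 48, bar (bar r) = r := by decide +kernel

theorem bar_lt : ∀ r < 48, bar r < 48 := by decide +kernel

theorem map_wd {γ : LL ≃* LL} (hγ : ∀ r < 48, γ (x r) = x (bar r)) : ∀ {w : List ℕ}, okw w = true →
    γ (wd w) = wd (w.map bar)
  | [], _ => by
    rw [List.map_nil, wd_nil]
    exact map_one γ
  | r :: w, hw => by
    have h1 : r < 48 := okw_lt hw r List.mem_cons_self
    have h2 : okw w = true := by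
      unfold okw at hw ⊢
      rw [List.all_cons, Bool.and_eq_true] at hw
      exact hw.2
    rw [wd_cons, map_mul, hγ r h1, map_wd hγ h2, List.map_cons, wd_cons]

theorem gamma_sq {γ : LL ≃* LL} (hγ : ∀ r < 48, γ (x r) = x (bar r)) (g : LL) : γ (γ g) = g := by
  have h : (γ.toMonoidHom.comp γ.toMonoidHom) = MonoidHom.id LL := by
    refine MonoidHom.eq_of_eqOn_dense closure_x ?_
    rintro _ ⟨r, hr, rfl⟩
    show γ (γ (x r)) = x r
    rw [hγ r hr, hγ _ (bar_lt r hr), bar_bar r hr]
  exact DFunLike.congr_fun h g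

/-- elements of order 21 -/
theorem conj21 (H : H16) {γ : LL ≃* LL} (hγ : ∀ r < 48, γ (x r) = x (bar r)) {g h : LL} (hg : orderOf g = 21)
    (hh : orderOf h = 21) : IsConj g h ∨ IsConj g (γ h) := by
  have hw : γ (wd w21) = wd w21' := by
    rw [map_wd hγ rfl]
    rfl
  have key : ∀ {g : LL}, orderOf g = 21 → IsConj (wd w21) g ∨ IsConj (wd w21') g := by
    intro g hg
    obtain ⟨p, hp, e⟩ := exists_of_order H (by norm_num) hg
    rw [filter21] at hp
    simp only [List.mem_cons, List.not_mem_nil, or_false] at hp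
    rcases hp with rfl | rfl
    · exact Or.inl e
    · exact Or.inr e
  have hm : ∀ {a b : LL}, IsConj a b → IsConj (γ a) (γ b) := fun e => isConj_map e γ.toMonoidHom
  rcases key hg with e1 | e1 <;> rcases key hh with e2 | e2
  · exact Or.inl (e1.symm.trans e2)
  · right
    have e3 := hm e2
    rw [← hw, gamma_sq hγ] at e3
    exact e1.symm.trans e3
  · right
    have e3 := hm e2
    rw [hw] at e3
    exact e1.symm.trans e3
  · exact Or.inl (e1.symm.trans e2)

end Cfsg.Agent.H326.F4C
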