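import Cfsg.Agent.H326.F4C.Tr

/-!
# Sixteen elements of odd order of `F₄(2)`, pairwise not conjugate (helper326)

* `W16` : the words with exponents: `1`, `3A 3B 3C 5A 7B 9B 15B` (letters of the Levi subgroup `{27, 25, 24}`),
  `7A 9A 15A` (the same under `bar`), `13`, `17A`, `17B = 17A³`, `21A`, `21B` (`bar`);
* `f16`, `odd_f16`, `f16_inj` : the input of the count of the 2-regular classes.
-/

set_option autoImplicit false
set_option maxRecDepth 100000

namespace Cfsg.Agent.H326.F4C

open Cfsg.Lie Cfsg.Agent.ChevalleyStructure.TwF4.Rel Cfsg.Agent.ChevalleyStructure.TwF4.Tables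
open Cfsg.Agent.ChevalleyStructure.TwF4.Bits
open Cfsg.Agent.FourTwo.Base Cfsg.Agent.FourTwo.RankInv Cfsg.Agent.FourTwo.ClassSep

/-- order 13 -/
def w13 : List ℕ := [25, 14, 20, 33, 23, 22, 27, 24]
/-- order 17 -/
def w17 : List ℕ := [22, 23, 24, 33, 22, 20, 27, 14, 25]
/-- order 21 -/
def w21 : List ℕ := [33, 23, 24, 14, 20, 27, 20]
/-- its image under `bar` -/
def w21' : List ℕ := [24, 14, 33, 23, 22, 25, 22]

/-- words in the first Levi subgroup -/
def WL : List (ℕ × List ℕ) := [(1, []), (3, [20, 27]), (3, [22, 25]), (3, [23, 24, 20, 27]), (5, [22, 25, 20, 27]),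
  (7, [24, 23, 22, 25]), (9, [23, 25, 24, 22, 25, 20, 27]), (15, [24, 23, 25, 22, 20, 27])]

/-- words in the second Levi subgroup -/
def WM : List (ℕ × List ℕ) := [(7, [33, 14, 20, 27]), (9, [14, 27, 33, 20, 27, 22, 25]), (15, [33, 14, 27, 20, 22, 25])]

/-- the other words -/
def WN : List (ℕ × List ℕ) := [(13, w13), (17, w17), (17, w17 ++ (w17 ++ w17)), (21, w21), (21, w21')]

/-- exponents and words -/
def W16 : List (ℕ × List ℕ) := WL ++ (WM ++ WN)

theorem length16 : W16.length = 16 := rfl

theorem chk16 : (W16.all fun p => okw p.2 && Nat.beq (wordM (rpw p.2 p.1)) idN) = true := by decide +kernel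

theorem odd16 : (W16.all fun p => p.1 % 2 == 1) = true := by decide +kernel

theorem iw16 : (W16.map fun p => iw p.2) = [((0, 0), (0, 0), false, false), ((12, 18), (0, 0), false, true),
    ((18, 12), (0, 0), true, false), ((18, 18), (0, 0), true, true), ((20, 20), (20, 20), true, true),
    ((24, 18), (24, 18), false, true), ((24, 22), (18, 18), true, false), ((24, 22), (20, 20), false, false),
    ((18, 24), (18, 24), true, false), ((22, 24), (18, 18), false, true), ((22, 24), (20, 20), false, false),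
    ((24, 24), (24, 24), false, false), ((24, 24), (24, 24), true, false), ((24, 24), (24, 24), false, true),
    ((24, 24), (18, 24), true, true), ((24, 24), (24, 18), true, true)] := by decide +kernel

theorem nodup16 : (W16.map fun p => iw p.2).Nodup := by
  rw [iw16]
  decide

theorem okw16 {p : ℕ × List ℕ} (hp : p ∈ W16) : okw p.2 = true := by
  have h := List.all_eq_true.1 chk16 p hp
  rw [Bool.and_eq_true] at h
  exact h.1

theorem pow16 {p : ℕ × List ℕ} (hp : p ∈ W16) : wd p.2 ^ p.1 = 1 := by
  have h := List.all_eq_true.1 chk16 p hp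
  rw [Bool.and_eq_true] at h
  exact pow_eq_one_of h.1 h.2

theorem orderOf16 {p : ℕ × List ℕ} (hp : p ∈ W16) : orderOf (wd p.2) ∣ p.1 := orderOf_dvd_of_pow_eq_one (pow16 hp)

theorem oddOrder16 {p : ℕ × List ℕ} (hp : p ∈ W16) : Odd (orderOf (wd p.2)) := by
  have h := List.all_eq_true.1 odd16 p hp
  rw [beq_iff_eq] at h
  exact (Nat.odd_iff.2 h).of_dvd_nat (orderOf16 hp)

/-- the sixteen elements -/
noncomputable def f16 (i : Fin 16) : LL := wd (W16.get (i.cast length16.symm)).2

theorem odd_f16 (i : Fin 16) : Odd (orderOf (f16 i)) := oddOrder16 (List.get_mem _ _)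

theorem f16_inj (i j : Fin 16) (h : IsConj (f16 i) (f16 j)) : i = j := by
  have h1 := iw_eq_of_isConj (okw16 (List.get_mem _ _)) (okw16 (List.get_mem _ _)) h
  have h2 := List.nodup_iff_injective_get.1 nodup16
  have h3 : (⟨i, by rw [List.length_map, length16]; exact i.2⟩ : Fin (W16.map fun p => iw p.2).length) =
      ⟨j, by rw [List.length_map, length16]; exact j.2⟩ := by
    apply h2
    rw [List.get_eq_getElem, List.get_eq_getElem, List.getElem_map, List.getElem_map]
    exact h1
  exact Fin.ext (Fin.mk.inj h3)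

/-- **every element of odd order is conjugate to one of the sixteen** (`H` : the count of the 2-regular classes) -/
theorem exists_mem (H : ∀ f : Fin 16 → LL, (∀ i, Odd (orderOf (f i))) → (∀ i j, IsConj (f i) (f j) → i = j) →
    ∀ {g : LL}, Odd (orderOf g) → ∃ i, IsConj (f i) g) {g : LL} (hg : Odd (orderOf g)) :
    ∃ p ∈ W16, IsConj (wd p.2) g := by
  obtain ⟨i, hi⟩ := H f16 odd_f16 f16_inj hg
  exact ⟨_, List.get_mem _ _, hi⟩

end Cfsg.Agent.H326.F4C
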