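import Cfsg.Agent.FourTwo.ClassSep

/-!
# Conjugation invariants of words of `F₄(2)` (helper326)

* `tJ`, `tI` : the traces on the quotient by the short ideal and on the short ideal, `tJ_conj`, `tI_conj`;
* `iw w` : the ranks of `g - 1`, of `g³ - 1` and the two traces, computed from a word;
* `sep_iw` : words with different invariants are not conjugate;
* `wd_eq_one_of` : a word is trivial (kernel check of the packed matrix).
-/

set_option autoImplicit false
set_option maxRecDepth 10000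

namespace Cfsg.Agent.H326.F4C

open Cfsg.Lie Cfsg.Agent.ChevalleyStructure.TwF4.Rel Cfsg.Agent.ChevalleyStructure.TwF4.Tables
open Cfsg.Agent.ChevalleyStructure.TwF4.Bits
open Cfsg.Agent.FourTwo.Base Cfsg.Agent.FourTwo.RankInv Cfsg.Agent.FourTwo.ClassSep

section abs

variable {n : Type*} [Fintype n] [DecidableEq n] {R : Type*} [CommRing R]

theorem trace_abs {D Y Yi G : Matrix n n R} (h1 : D * Y = D * Y * D) (h2 : D * (G * Yi) = D * (G * Yi) * D)
    (h3 : Yi * Y = 1) : (D * (Y * G * Yi)).trace = (D * G).trace := by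
  have e1 : D * (Y * G * Yi) = (D * Y) * (D * (G * Yi)) := by
    calc D * (Y * G * Yi) = D * Y * (G * Yi) := by simp only [Matrix.mul_assoc]
      _ = D * Y * D * (G * Yi) := by rw [← h1]
      _ = (D * Y) * (D * (G * Yi)) := by simp only [Matrix.mul_assoc]
  have e2 : (D * (G * Yi)) * (D * Y) = D * G := by
    calc (D * (G * Yi)) * (D * Y) = D * (G * Yi) * D * Y := by simp only [Matrix.mul_assoc]
      _ = D * (G * Yi) * Y := by rw [← h2]
      _ = D * G * (Yi * Y) := by simp only [Matrix.mul_assoc]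
      _ = D * G := by rw [h3, Matrix.mul_one]
  rw [e1, Matrix.trace_mul_comm, e2]

theorem trace_conj_abs {Y Yi G : Matrix n n R} (h3 : Yi * Y = 1) : (Y * G * Yi).trace = G.trace := by
  rw [Matrix.trace_mul_comm, ← Matrix.mul_assoc, h3, Matrix.one_mul]

theorem conj3 {H : Type*} [Group H] (y g : H) : (y * g * y⁻¹) ^ 3 = y * g ^ 3 * y⁻¹ := conj_pow

theorem cube {H : Type*} [Group H] (g : H) : g ^ 3 = g * (g * g) := by
  rw [pow_succ', pow_two]

end abs

/-- trace on the quotient by the short ideal -/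
noncomputable def tJ (g : GL chevF4.Idx (ZMod 2)) : ZMod 2 :=
  (dg (ZMod 2) maskJ * (g : Matrix chevF4.Idx chevF4.Idx (ZMod 2))).trace

/-- trace on the short ideal -/
noncomputable def tI (g : GL chevF4.Idx (ZMod 2)) : ZMod 2 :=
  (dg (ZMod 2) maskI * (g : Matrix chevF4.Idx chevF4.Idx (ZMod 2))).trace

theorem coe_conj (y g : GL chevF4.Idx (ZMod 2)) :
    ((y * g * y⁻¹ : GL chevF4.Idx (ZMod 2)) : Matrix chevF4.Idx chevF4.Idx (ZMod 2)) =
      (y : Matrix chevF4.Idx chevF4.Idx (ZMod 2)) * (g : Matrix chevF4.Idx chevF4.Idx (ZMod 2)) *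
        ((y⁻¹ : GL chevF4.Idx (ZMod 2)) : Matrix chevF4.Idx chevF4.Idx (ZMod 2)) := by
  rw [Units.val_mul, Units.val_mul]

theorem coe_inv_mul (y : GL chevF4.Idx (ZMod 2)) :
    ((y⁻¹ : GL chevF4.Idx (ZMod 2)) : Matrix chevF4.Idx chevF4.Idx (ZMod 2)) *
      (y : Matrix chevF4.Idx chevF4.Idx (ZMod 2)) = 1 := by
  rw [← Units.val_mul, inv_mul_cancel, Units.val_one]

theorem tJ_conj {g y : GL chevF4.Idx (ZMod 2)} (hg : g ∈ pres (ZMod 2)) (hy : y ∈ pres (ZMod 2)) :
    tJ (y * g * y⁻¹) = tJ g := by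
  unfold tJ
  rw [coe_conj]
  refine trace_abs (dgJ_mul hy) ?_ (coe_inv_mul y)
  have h3 := dgJ_mul ((pres (ZMod 2)).mul_mem hg ((pres (ZMod 2)).inv_mem hy))
  rw [Units.val_mul] at h3
  exact h3

theorem tJ_add_tI (g : GL chevF4.Idx (ZMod 2)) :
    tJ g + tI g = (g : Matrix chevF4.Idx chevF4.Idx (ZMod 2)).trace := by
  unfold tJ tI
  rw [← Matrix.trace_add, ← Matrix.add_mul, dg_add, Matrix.one_mul]

theorem tI_conj {g y : GL chevF4.Idx (ZMod 2)} (hg : g ∈ pres (ZMod 2)) (hy : y ∈ pres (ZMod 2)) :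
    tI (y * g * y⁻¹) = tI g := by
  have h1 := tJ_add_tI (y * g * y⁻¹)
  have h2 := tJ_add_tI g
  rw [coe_conj, trace_conj_abs (coe_inv_mul y), tJ_conj hg hy, ← h2] at h1
  exact add_left_cancel h1

/-! ### the computation from a packed matrix -/

/-- parity of the diagonal bits -/
def trB (m M : ℕ) (n : ℕ) : Bool := Nat.rec false (fun k ih => xor ih (tb m k && tb M (53 * k))) n

theorem trB_succ (m M n : ℕ) : trB m M (n + 1) = xor (trB m M n) (tb m n && tb M (53 * n)) := rfl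

/-- `Bool → ZMod 2` -/
def b2 (b : Bool) : ZMod 2 := if b then 1 else 0

theorem b2_xor : ∀ a b : Bool, b2 (xor a b) = b2 a + b2 b := by decide

theorem b2_inj : ∀ a b : Bool, b2 a = b2 b → a = b := by decide

theorem sum_trB (m M : ℕ) : ∀ n : ℕ, ∑ k ∈ Finset.range n, b2 (tb m k && tb M (53 * k)) = b2 (trB m M n)
  | 0 => by simp [trB, b2]
  | n + 1 => by rw [Finset.sum_range_succ, sum_trB m M n, trB_succ, b2_xor]

theorem trace_sem (m M : ℕ) :
    (dg (ZMod 2) m * sem pos (ZMod 2) M).trace = b2 (trB m M 52) := by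
  rw [← sum_trB]
  unfold Matrix.trace
  refine Finset.sum_bij (fun i _ => pos i) ?_ ?_ ?_ ?_
  · intro i _
    exact Finset.mem_range.2 (posOK.lt i)
  · intro i _ j _ h
    exact posOK.inj h
  · intro n hn
    obtain ⟨i, hi⟩ := posOK.surj n (Finset.mem_range.1 hn)
    exact ⟨i, Finset.mem_univ _, hi⟩
  · intro i _
    rw [Matrix.diag_apply]
    unfold dg
    rw [Matrix.diagonal_mul, sem_apply, tb_eq, tb_eq, show 53 * pos i = 52 * pos i + pos i by ring]
    cases m.testBit (pos i) <;> cases M.testBit (52 * pos i + pos i) <;> simp [b2]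

/-! ### the invariants -/

/-- the invariants of an element -/
noncomputable def ig (g : LL) : (ℕ × ℕ) × (ℕ × ℕ) × ZMod 2 × ZMod 2 :=
  (rk2 g, rk2 (g ^ 3), tJ (g : GL chevF4.Idx (ZMod 2)), tI (g : GL chevF4.Idx (ZMod 2)))

theorem ig_conj (y g : LL) : ig (y * g * y⁻¹) = ig g := by
  have h1 : ((y * g * y⁻¹ : LL) : GL chevF4.Idx (ZMod 2)) =
      (y : GL chevF4.Idx (ZMod 2)) * g * (y : GL chevF4.Idx (ZMod 2))⁻¹ := rfl
  have h2 : (y * g * y⁻¹) ^ 3 = y * g ^ 3 * y⁻¹ := conj3 y g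
  unfold ig
  rw [rk2_conj, h2, rk2_conj, h1, tJ_conj (group_le_pres g.2) (group_le_pres y.2),
    tI_conj (group_le_pres g.2) (group_le_pres y.2)]

theorem ig_eq_of_isConj {g h : LL} (e : IsConj g h) : ig g = ig h := by
  obtain ⟨y, rfl⟩ := isConj_iff.1 e
  exact (ig_conj y g).symm

/-- the invariants of a word -/
def iw (w : List ℕ) : (ℕ × ℕ) × (ℕ × ℕ) × Bool × Bool :=
  (iv w, iv (w ++ (w ++ w)), trB maskJ (wordM w) 52, trB maskI (wordM w) 52)

/-- the letters are roots -/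
def okw (w : List ℕ) : Bool := w.all fun r => decide (r < 48)

theorem okw_lt {w : List ℕ} (h : okw w = true) : ∀ r ∈ w, r < 48 := by
  unfold okw at h
  rw [List.all_eq_true] at h
  exact fun r hr => of_decide_eq_true (h r hr)

theorem okw_append {u v : List ℕ} (hu : okw u = true) (hv : okw v = true) : okw (u ++ v) = true := by
  unfold okw at *
  rw [List.all_append, hu, hv]
  rfl

theorem coe_wd_sem {w : List ℕ} (hw : okw w = true) :
    (((wd w : LL) : GL chevF4.Idx (ZMod 2)) : Matrix chevF4.Idx chevF4.Idx (ZMod 2)) =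
      sem pos (ZMod 2) (wordM w) := by
  rw [coe_wd_wX, coe_wX, sem_wordM w (okw_lt hw)]

theorem ig_wd {w : List ℕ} (hw : okw w = true) :
    ig (wd w) = ((iw w).1, (iw w).2.1, b2 (iw w).2.2.1, b2 (iw w).2.2.2) := by
  have h3 : wd w ^ 3 = wd (w ++ (w ++ w)) := by
    rw [wd_append, wd_append, cube]
  unfold ig iw
  rw [h3, rk2_wd w hw, rk2_wd _ (okw_append hw (okw_append hw hw))]
  unfold tJ tI
  rw [coe_wd_sem hw, trace_sem, trace_sem]

theorem iw_eq_of_isConj {w w' : List ℕ} (hw : okw w = true) (hw' : okw w' = true) (e : IsConj (wd w) (wd w')) :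
    iw w = iw w' := by
  have h := ig_eq_of_isConj e
  rw [ig_wd hw, ig_wd hw'] at h
  simp only [Prod.mk.injEq] at h
  obtain ⟨h1, h2, h3, h4⟩ := h
  exact Prod.ext h1 (Prod.ext h2 (Prod.ext (b2_inj _ _ h3) (b2_inj _ _ h4)))

/-- **words with different invariants are not conjugate** -/
theorem sep_iw {w w' : List ℕ} (hw : okw w = true) (hw' : okw w' = true) (h : iw w ≠ iw w') :
    ¬ IsConj (wd w) (wd w') := fun e => h (iw_eq_of_isConj hw hw' e)

/-! ### trivial words -/

/-- a trivial word -/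
theorem wd_eq_one_of {w : List ℕ} (hw : okw w = true) (h : Nat.beq (wordM w) idN = true) : wd w = 1 := by
  apply Subtype.ext
  apply Units.ext
  rw [coe_wd_sem hw, Nat.eq_of_beq_eq_true h, sem_idN]
  rfl

/-- repetition -/
def rpw (w : List ℕ) : ℕ → List ℕ := Nat.rec [] (fun _ ih => w ++ ih)

theorem rpw_succ (w : List ℕ) (n : ℕ) : rpw w (n + 1) = w ++ rpw w n := rfl

theorem wd_rpw (w : List ℕ) : ∀ n : ℕ, wd (rpw w n) = wd w ^ n
  | 0 => by
    rw [pow_zero]
    exact wd_nil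
  | n + 1 => by rw [rpw_succ, wd_append, wd_rpw w n, pow_succ']

theorem okw_rpw {w : List ℕ} (hw : okw w = true) : ∀ n : ℕ, okw (rpw w n) = true
  | 0 => rfl
  | n + 1 => okw_append hw (okw_rpw hw n)

/-- the order divides `n` -/
theorem pow_eq_one_of {w : List ℕ} {n : ℕ} (hw : okw w = true) (h : Nat.beq (wordM (rpw w n)) idN = true) :
    wd w ^ n = 1 := by
  rw [← wd_rpw]
  exact wd_eq_one_of (okw_rpw hw n) h

end Cfsg.Agent.H326.F4C
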